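import Groth.Agent.RDerLib.LES
import Mathlib

/-!
Cohomological amplitude of an additive functor on a bounded below complex of injectives.
-/

set_option autoImplicit false
set_option backward.isDefEq.respectTransparency false
set_option backward.isDefEq.respectTransparency.types false

universe v u w

open CategoryTheory Category Limits

namespace Groth.Agent.RDerBound

variable {A : Type u} [Category.{v} A] [Abelian A] [HasInjectiveResolutions A]
  (F : A ⥤ AddCommGrpCat.{w}) [F.Additive]

section LES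

variable {S : ShortComplex A} (hS : S.ShortExact)

include hS

theorem isZero_mid {p : ℕ} (h₁ : IsZero ((F.rightDerived p).obj S.X₁)) (h₃ : IsZero ((F.rightDerived p).obj S.X₃)) :
    IsZero ((F.rightDerived p).obj S.X₂) :=
  ((RDerLib.derivedLES F).exact₂ S hS p).isZero_of_both_zeros (h₁.eq_of_src _ _) (h₃.eq_of_tgt _ _)

theorem isZero_right {p : ℕ} (h₂ : IsZero ((F.rightDerived p).obj S.X₂))
    (h₁ : IsZero ((F.rightDerived (p + 1)).obj S.X₁)) : IsZero ((F.rightDerived p).obj S.X₃) :=
  ((RDerLib.derivedLES F).exact₃ S hS p (p + 1) rfl).isZero_of_both_zeros (h₂.eq_of_src _ _) (h₁.eq_of_tgt _ _)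

theorem epi_g {p : ℕ} (h₁ : IsZero ((F.rightDerived (p + 1)).obj S.X₁)) : Epi ((F.rightDerived p).map S.g) :=
  ((RDerLib.derivedLES F).exact₃ S hS p (p + 1) rfl).epi_f (h₁.eq_of_tgt _ _)

theorem epi_f {p : ℕ} (h₃ : IsZero ((F.rightDerived p).obj S.X₃)) : Epi ((F.rightDerived p).map S.f) :=
  ((RDerLib.derivedLES F).exact₂ S hS p).epi_f (h₃.eq_of_tgt _ _)

omit hS

theorem mono_rightDerived_zero {X Y : A} (f : X ⟶ Y) [Mono f] : Mono ((F.rightDerived 0).map f) := by
  have hS : (ShortComplex.mk f (cokernel.π f) (cokernel.condition f)).ShortExact :=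
    { exact := ShortComplex.exact_of_g_is_cokernel _ (cokernelIsCokernel f) }
  obtain ⟨T⟩ := RDerLib.nonempty_sesRes hS
  have := (T.map_shortExact F).mono_f
  have hm : Mono (RDerLib.hmap F T.f 0) := by
    have h0 : (ComplexShape.up ℕ).prev 0 = 0 := CochainComplex.prev_nat_zero
    let φ := (F.mapHomologicalComplex (ComplexShape.up ℕ)).map T.f
    haveI : Mono φ := this
    haveI : IsIso ((((F.mapHomologicalComplex (ComplexShape.up ℕ)).obj T.I₁.cocomplex)).homologyπ 0) :=
      HomologicalComplex.isIso_homologyπ _ 0 0 h0 (by simp)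
    haveI : IsIso ((((F.mapHomologicalComplex (ComplexShape.up ℕ)).obj T.I₂.cocomplex)).homologyπ 0) :=
      HomologicalComplex.isIso_homologyπ _ 0 0 h0 (by simp)
    haveI : Mono (HomologicalComplex.cyclesMap φ 0 ≫
        (((F.mapHomologicalComplex (ComplexShape.up ℕ)).obj T.I₂.cocomplex)).homologyπ 0) := by
      haveI : Mono (φ.f 0) := inferInstance
      haveI : Mono (HomologicalComplex.cyclesMap φ 0) :=
        mono_of_mono_fac (HomologicalComplex.cyclesMap_i φ 0)
      infer_instance
    haveI : Mono (((F.mapHomologicalComplex (ComplexShape.up ℕ)).obj T.I₁.cocomplex).homologyπ 0 ≫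
        HomologicalComplex.homologyMap φ 0) := by
      rw [HomologicalComplex.homologyπ_naturality]; infer_instance
    have e : RDerLib.hmap F T.f 0 = inv (((F.mapHomologicalComplex (ComplexShape.up ℕ)).obj T.I₁.cocomplex).homologyπ 0) ≫
        (((F.mapHomologicalComplex (ComplexShape.up ℕ)).obj T.I₁.cocomplex).homologyπ 0 ≫ HomologicalComplex.homologyMap φ 0) :=
      (IsIso.inv_hom_id_assoc _ _).symm
    rw [e]
    infer_instance
  have h := RDerLib.map_f F T 0
  haveI : Mono ((F.rightDerived 0).map f ≫ (T.I₂.isoRightDerivedObj F 0).hom) := by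
    rw [show (F.rightDerived 0).map f ≫ (T.I₂.isoRightDerivedObj F 0).hom = _ from h]
    infer_instance
  exact mono_of_mono ((F.rightDerived 0).map f) (T.I₂.isoRightDerivedObj F 0).hom

end LES

section Complex

variable (I : CochainComplex A ℤ)

/-- boundaries, as the kernel of cycles to homology -/
noncomputable abbrev bnd (j : ℤ) : A := kernel (I.homologyπ j)

/-- the differential onto the boundaries -/
noncomputable abbrev toBnd (i j : ℤ) : I.X i ⟶ bnd I j :=
  kernel.lift (I.homologyπ j) (I.toCycles i j) (by simp)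

theorem epi_toBnd (i j : ℤ) (h : i + 1 = j) : Epi (toBnd I i j) :=
  (ShortComplex.exact_of_g_is_cokernel (ShortComplex.mk _ _ (I.toCycles_comp_homologyπ i j))
    (I.homologyIsCokernel i j (by simp; lia))).epi_kernelLift

theorem ses_bnd (j : ℤ) : (ShortComplex.mk (kernel.ι (I.homologyπ j)) (I.homologyπ j) (kernel.condition _)).ShortExact :=
  { exact := ShortComplex.exact_of_f_is_kernel _ (kernelIsKernel _) }

theorem ses_cycles (i j : ℤ) (h : i + 1 = j) :
    (ShortComplex.mk (I.iCycles i) (toBnd I i j) (by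
      rw [← cancel_mono (kernel.ι (I.homologyπ j)), assoc, kernel.lift_ι, zero_comp]
      rw [← cancel_mono (I.iCycles j), assoc, HomologicalComplex.toCycles_i, zero_comp, HomologicalComplex.iCycles_d])).ShortExact :=
  have := epi_toBnd I i j h
  { exact := by
      refine ShortComplex.exact_of_f_is_kernel _ (KernelFork.IsLimit.ofι' _ _ fun {W} k hk => ?_)
      have hk' : k ≫ I.d i j = 0 := by
        have e : toBnd I i j ≫ kernel.ι (I.homologyπ j) ≫ I.iCycles j = I.d i j := by
          rw [kernel.lift_ι_assoc, HomologicalComplex.toCycles_i]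
        refine (congrArg (k ≫ ·) e.symm).trans ?_
        exact (Category.assoc _ _ _).symm.trans ((congrArg (· ≫ _) hk).trans zero_comp)
      exact ⟨I.liftCycles k j (by simp; lia) hk', I.liftCycles_i _ _ _ _⟩ }

variable (N : ℕ) (a b : ℤ) [hGE : I.IsStrictlyGE a] (hI : ∀ j, Injective (I.X j))
  (hN : ∀ j p, N ≤ p → IsZero ((F.rightDerived p).obj (I.homology j)))
  (hb : ∀ j, b < j → IsZero (I.homology j))

include hI hN hGE in
theorem isZero_cycles (j : ℤ) : ∀ p, 1 ≤ p → N ≤ p → IsZero ((F.rightDerived p).obj (I.cycles j)) := by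
  suffices key : ∀ (n : ℕ) (j : ℤ), j < a + n → ∀ p, 1 ≤ p → N ≤ p → IsZero ((F.rightDerived p).obj (I.cycles j)) from
    key (j - a + 1).toNat j (by lia)
  intro n
  induction n with
  | zero =>
    intro j hj p _ _
    refine Functor.map_isZero _ (IsZero.of_mono (I.iCycles j) ?_)
    exact I.isZero_of_isStrictlyGE a j (by lia)
  | succ n ih =>
    intro j hj p hp hpN
    refine isZero_mid F (ses_bnd I j) ?_ (hN j p hpN)
    refine isZero_right F (ses_cycles I (j - 1) j (by lia)) ?_ (ih (j - 1) (by lia) (p + 1) (by lia) (by lia))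
    have := hI (j - 1)
    obtain ⟨q, rfl⟩ := Nat.exists_eq_add_of_le' hp
    exact F.isZero_rightDerived_obj_injective_succ q _

include hI hN hb hGE in
theorem isZero_cycles_above : ∀ (k p : ℕ), 1 ≤ p → N ≤ p + k → IsZero ((F.rightDerived p).obj (I.cycles (b + k))) := by
  intro k
  induction k with
  | zero => exact fun p hp hpN => isZero_cycles F I N a hI hN _ p hp (by simpa using hpN)
  | succ k ih =>
    intro p hp hpk
    refine isZero_mid F (ses_bnd I _) ?_ (Functor.map_isZero _ (hb _ (by lia)))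
    refine isZero_right F (ses_cycles I (b + k) (b + (k + 1 : ℕ)) (by lia)) ?_ (ih (p + 1) (by lia) (by lia))
    have := hI (b + k)
    obtain ⟨q, rfl⟩ := Nat.exists_eq_add_of_le' hp
    exact F.isZero_rightDerived_obj_injective_succ q _

omit [HasInjectiveResolutions A] in
theorem exact_map_iff {G : A ⥤ AddCommGrpCat.{w}} [G.Additive] (τ : F ⟶ G) (S : ShortComplex A) [IsIso (τ.app S.X₁)]
    [IsIso (τ.app S.X₂)] [IsIso (τ.app S.X₃)] : (S.map F).Exact ↔ (S.map G).Exact :=
  ShortComplex.exact_iff_of_iso (ShortComplex.isoMk (asIso (τ.app S.X₁)) (asIso (τ.app S.X₂))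
    (asIso (τ.app S.X₃)) (τ.naturality S.f).symm (τ.naturality S.g).symm)

include hI in
theorem exact_map (i : ℤ) (h₁ : IsZero ((F.rightDerived 1).obj (I.cycles (i - 1))))
    (h₀ : IsZero ((F.rightDerived 0).obj (I.homology i))) :
    ((F.mapHomologicalComplex (ComplexShape.up ℤ)).obj I).ExactAt i := by
  let G := F.rightDerived 0
  haveI := hI (i - 1); haveI := hI i; haveI := hI (i + 1)
  rw [HomologicalComplex.exactAt_iff' _ (i - 1) i (i + 1) (by simp) (by simp)]
  haveI : IsIso (F.toRightDerivedZero.app (I.sc' (i - 1) i (i + 1)).X₁) := inferInstanceAs (IsIso (F.toRightDerivedZero.app (I.X (i - 1))))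
  haveI : IsIso (F.toRightDerivedZero.app (I.sc' (i - 1) i (i + 1)).X₂) := inferInstanceAs (IsIso (F.toRightDerivedZero.app (I.X i)))
  haveI : IsIso (F.toRightDerivedZero.app (I.sc' (i - 1) i (i + 1)).X₃) := inferInstanceAs (IsIso (F.toRightDerivedZero.app (I.X (i + 1))))
  suffices ((I.sc' (i - 1) i (i + 1)).map G).Exact from (exact_map_iff F F.toRightDerivedZero _).2 this
  rw [ShortComplex.ab_exact_iff]
  intro x hx
  have hx' : G.map (I.d i (i + 1)) x = 0 := hx
  have hB : G.map (toBnd I i (i + 1)) x = 0 := by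
    haveI := mono_rightDerived_zero F (kernel.ι (I.homologyπ (i + 1)) ≫ I.iCycles (i + 1))
    have hd : toBnd I i (i + 1) ≫ kernel.ι (I.homologyπ (i + 1)) ≫ I.iCycles (i + 1) = I.d i (i + 1) := by
      rw [kernel.lift_ι_assoc, I.toCycles_i]
    rw [← hd, Functor.map_comp, ConcreteCategory.comp_apply] at hx'
    exact (AddCommGrpCat.mono_iff_injective _).1 this (hx'.trans (map_zero _).symm)
  obtain ⟨z, hz⟩ := (ShortComplex.ab_exact_iff _).1
    ((RDerLib.derivedLES F).exact₂ _ (ses_cycles I i (i + 1) rfl) 0) x hB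
  haveI : Epi (G.map (toBnd I (i - 1) i) ≫ G.map (kernel.ι (I.homologyπ i))) := by
    haveI := epi_g F (ses_cycles I (i - 1) i (by lia)) (p := 0) h₁
    haveI := epi_f F (ses_bnd I i) (p := 0) h₀
    exact epi_comp _ _
  obtain ⟨y, hy⟩ := (AddCommGrpCat.epi_iff_surjective (G.map (toBnd I (i - 1) i) ≫ G.map (kernel.ι (I.homologyπ i)))).1 this z
  have hz' : G.map (I.iCycles i) z = x := hz
  have hd' : (toBnd I (i - 1) i ≫ kernel.ι (I.homologyπ i)) ≫ I.iCycles i = I.d (i - 1) i := by
    rw [kernel.lift_ι, HomologicalComplex.toCycles_i]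
  have hy' : G.map (I.d (i - 1) i) y = x := by
    rw [← hd', Functor.map_comp, Functor.map_comp, ConcreteCategory.comp_apply, hy]
    exact hz'
  exact ⟨y, hy'⟩

include hI hN hb hGE in
theorem exactAt_map (i : ℤ) (hi : i < a ∨ b + N ≤ i) :
    ((F.mapHomologicalComplex (ComplexShape.up ℤ)).obj I).ExactAt i := by
  rcases lt_or_ge i a with h | h
  · exact ShortComplex.exact_of_isZero_X₂ _ (F.map_isZero (I.isZero_of_isStrictlyGE a i h))
  have hi' : b + N ≤ i := hi.resolve_left (by lia)
  rcases le_or_gt i b with hib | hib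
  · have hN0 : N = 0 := by lia
    exact exact_map F I hI i (isZero_cycles F I N a hI hN _ 1 le_rfl (by lia)) (hN i 0 (by lia))
  · refine exact_map F I hI i ?_ (Functor.map_isZero _ (hb i hib))
    have := isZero_cycles_above F I N a b hI hN hb (i - 1 - b).toNat 1 le_rfl (by lia)
    rwa [show b + ((i - 1 - b).toNat : ℤ) = i - 1 by lia] at this

end Complex

end Groth.Agent.RDerBound
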