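import Groth.Agent.RDerBound.Basic
import Groth.Agent.KInj.Adjunction

/-!
Cohomological amplitude of total right derived functors on bounded objects.
-/

set_option autoImplicit false
set_option backward.isDefEq.respectTransparency false
set_option backward.isDefEq.respectTransparency.types false

universe v u w w₁ w₂

open CategoryTheory Category Limits

namespace Groth.Agent.RDerBound

variable {A : Type u} [Category.{v} A] [Abelian A] [HasDerivedCategory.{w₁} A] [EnoughInjectives A]
  [HasInjectiveResolutions A]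
  (F : A ⥤ AddCommGrpCat.{w}) [F.Additive] [HasDerivedCategory.{w₂} AddCommGrpCat.{w}]

theorem isZero_homology_rightDerived
    (hK : ∀ K : CochainComplex A ℤ, ∃ (I : CochainComplex A ℤ) (f : K ⟶ I), I.IsKInjective ∧ QuasiIso f)
    [(F.mapHomotopyCategory (ComplexShape.up ℤ) ⋙ DerivedCategory.Qh).HasRightDerivedFunctor
      (HomotopyCategory.quasiIso A (ComplexShape.up ℤ))]
    (N : ℕ) (E : DerivedCategory A) (a b : ℤ)
    (hN : ∀ j p, N ≤ p → IsZero ((F.rightDerived p).obj ((DerivedCategory.homologyFunctor A j).obj E)))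
    (hab : ∀ j : ℤ, j < a ∨ b < j → IsZero ((DerivedCategory.homologyFunctor A j).obj E))
    (i : ℤ) (hi : i < a ∨ b + N ≤ i) :
    IsZero ((DerivedCategory.homologyFunctor AddCommGrpCat.{w} i).obj
      (((F.mapHomotopyCategory (ComplexShape.up ℤ) ⋙ DerivedCategory.Qh).totalRightDerived DerivedCategory.Qh
        (HomotopyCategory.quasiIso A (ComplexShape.up ℤ))).obj E)) := by
  let Φ := F.mapHomotopyCategory (ComplexShape.up ℤ) ⋙ DerivedCategory.Qh
  let W := HomotopyCategory.quasiIso A (ComplexShape.up ℤ)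
  let RF := Φ.totalRightDerived DerivedCategory.Qh W
  let α := Φ.totalRightDerivedUnit DerivedCategory.Qh W
  have : E.IsGE a := (DerivedCategory.isGE_iff _ _).2 fun j hj => hab j (Or.inl hj)
  obtain ⟨K, ⟨eK⟩⟩ : ∃ K : CochainComplex A ℤ, Nonempty (DerivedCategory.Q.obj K ≅ E) :=
    ⟨_, ⟨DerivedCategory.Q.objObjPreimageIso E⟩⟩
  have : K.IsGE a := (DerivedCategory.isGE_Q_obj_iff _ _).1 (DerivedCategory.TStructure.t.isGE_of_iso eK.symm a)
  obtain ⟨I, s, hs, hI, hGE⟩ :=
    CochainComplex.Plus.modelCategoryQuillen.exists_quasiIso_injective (K.truncGE a) a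
  haveI := hs; haveI := hGE
  haveI : I.IsKInjective := CochainComplex.isKInjective_of_injective I a
  let e : E ≅ DerivedCategory.Q.obj I :=
    eK.symm ≪≫ asIso (DerivedCategory.Q.map (K.πTruncGE a ≫ s))
  have hH : ∀ j, Nonempty ((DerivedCategory.homologyFunctor A j).obj E ≅ I.homology j) := fun j =>
    ⟨(DerivedCategory.homologyFunctor A j).mapIso e ≪≫ (DerivedCategory.homologyFunctorFactors A j).app I⟩
  have hex := exactAt_map F I N a b hI (fun j p hp => (hN j p hp).of_iso ((F.rightDerived p).mapIso (hH j).some.symm))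
    (fun j hj => (hab j (Or.inr hj)).of_iso (hH j).some.symm) i hi
  have hiso : IsIso (α.app ((HomotopyCategory.quotient A (ComplexShape.up ℤ)).obj I)) :=
    (KInj.isDeforming_Qh hK Φ).isIso_app W RF α (I := (HomotopyCategory.quotient A (ComplexShape.up ℤ)).obj I) ‹_›
  refine (((HomologicalComplex.exactAt_iff_isZero_homology _ _).1 hex).of_iso ?_)
  exact (DerivedCategory.homologyFunctor _ i).mapIso (RF.mapIso (e ≪≫ ((DerivedCategory.quotientCompQhIso A).app I).symm) ≪≫
      (@asIso _ _ _ _ _ hiso).symm ≪≫ (DerivedCategory.quotientCompQhIso AddCommGrpCat.{w}).app _) ≪≫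
    (DerivedCategory.homologyFunctorFactors _ i).app _

end Groth.Agent.RDerBound
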